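import Cfsg.Agent.KFacts.He.TwoA_m3
import Cfsg.Agent.H868.Dl.HeCls
import Cfsg.Agent.H348.PPD.HeCent
import Cfsg.Agent.H713.Two.HeClasses
import Cfsg.Agent.H729.PairMathieu
import Cfsg.Agent.H729.M24Deg
import Cfsg.Agent.H729.TransFast
import Cfsg.Agent.FastGrp
import Cfsg.Agent.Prune
set_option linter.all false

-- part: H30/OZ/HeDat
section
set_option linter.all false
open scoped Cfsg.Agent.FastGrp

-- part: H30/OZ/HeDat
section
/-!
# Classes of the Held group (helper30, S4842)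

Centralizers and conjugacy of powers for elements of orders 4, 5, 7, 8 and for the involution `d`.
-/

set_option autoImplicit false
set_option maxRecDepth 100000

namespace Cfsg.Agent.H30.OZ.HeDat

open Subgroup Cfsg
open Cfsg.Spor Cfsg.Spor.He Cfsg.Agent.SporadicB.HePerm Cfsg.Agent.FixBN.HeStab Cfsg.Agent.KFacts.He.Lv
open Cfsg.Agent.CpAutHe.Cnt Cfsg.Agent.H153.Zeros.He17 Cfsg.Agent.H19.Odd.HeCnt
open Cfsg.Agent.H868.Dl.HeCls (W8 order_eight card_eight)

/-- an element of order 5 -/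
def W5 : List Gen := [.a, .c, .d]
/-- an element of order 7, class 7D -/
def W7 : List Gen := [.d, .c, .b, .g, .d, .g, .f, .d, .c, .b, .g, .d, .g, .f]
/-- an element of order 4, class 4C -/
def W4 : List Gen := [.b, .f, .g]

def l5 : List Stp := [⟨511, [], [1], 150⟩, ⟨1628, [511, 629, 706, 1460], [2], 1⟩, ⟨1873, [590, 821, 706, 589], [], 1⟩,
  ⟨120, [511, 1873, 1860], [], 1⟩, ⟨823, [1760, 131, 1860, 1873, 232], [], 2⟩, ⟨0, [823, 1756, 233], [], 1⟩,
  ⟨1, [1341, 1460, 821, 823, 1435], [], 1⟩, ⟨32, [233, 1460, 1860, 823], [], 1⟩, ⟨8, [1341, 1127, 131, 1], [], 1⟩]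

def l7 : List Stp := [⟨168, [], [1], 98⟩, ⟨753, [1557, 291, 168, 120], [], 1⟩, ⟨1265, [125, 1557, 276, 168, 344], [], 2⟩,
  ⟨0, [231, 291, 1258, 619], [], 1⟩, ⟨32, [1022, 1258, 1369, 665, 98], [], 1⟩, ⟨8, [168, 231, 1022, 616], [], 1⟩]

def l4 : List Stp := [⟨343, [], [1, 2], 16⟩, ⟨1172, [263], [1], 8⟩, ⟨856, [854, 263, 1172, 343], [1], 1⟩,
  ⟨1609, [1172, 263, 343, 1176, 2002], [], 1⟩, ⟨0, [1264, 1824, 854, 1920, 263], [], 1⟩,
  ⟨1, [0, 1609, 263, 2046, 1901, 1264, 1936, 2002, 856, 16], [], 1⟩, ⟨32, [1824, 1264, 1172, 1936], [], 1⟩,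
  ⟨8, [1936, 854, 16, 1264], [], 1⟩]

open Cfsg.Agent.H868.Dl.HeCls (runq card_leq)

theorem run5 : runq W5 l5 [] = true := by decide +kernel
theorem run7 : runq W7 l7 [] = true := by decide +kernel
theorem run4 : runq W4 l4 [] = true := by decide +kernel

theorem cent5 : Nat.card ↥(centralizer ({wd W5} : Set Cfsg.Spor.He)) ≤ 300 := card_leq run5 (by decide)
theorem cent7 : Nat.card ↥(centralizer ({wd W7} : Set Cfsg.Spor.He)) ≤ 196 := card_leq run7 (by decide)
theorem cent4 : Nat.card ↥(centralizer ({wd W4} : Set Cfsg.Spor.He)) ≤ 128 := card_leq run4 (by decide)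

theorem o5 : orderOf (wd W5) = 5 := hasOrd_word (by norm_num) [5] (by decide +kernel) (by decide +kernel)
theorem o7 : orderOf (wd W7) = 7 := hasOrd_word (by norm_num) [7] (by decide +kernel) (by decide +kernel)
theorem o4 : orderOf (wd W4) = 4 := hasOrd_word (by norm_num) [2] (by decide +kernel) (by decide +kernel)
theorem o2 : orderOf (wd [.d]) = 2 := hasOrd_word (by norm_num) [2] (by decide +kernel) (by decide +kernel)
theorem o10 : orderOf (wd [.c, .d]) = 10 := hasOrd_word (by norm_num) [2, 5] (by decide +kernel) (by decide +kernel)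
theorem o14 : orderOf (wd [.d, .c, .b, .g, .d, .g, .f]) = 14 :=
  hasOrd_word (by norm_num) [2, 7] (by decide +kernel) (by decide +kernel)
theorem o3 : orderOf (wd [.b, .c]) = 3 := hasOrd_word (by norm_num) [3] (by decide +kernel) (by decide +kernel)
theorem o6 : orderOf (wd [.a, .b, .c]) = 6 := hasOrd_word (by norm_num) [2, 3] (by decide +kernel) (by decide +kernel)

/-- conjugate words -/
theorem conj_of {a b c : List Gen} (h : chkB (c ++ a) (b ++ c) = true) : IsConj (wd a) (wd b) := by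
  have h1 := eq_of_chkB h
  rw [wd_append, wd_append] at h1
  exact isConj_iff.2 ⟨wd c, by rw [h1, mul_inv_cancel_right]⟩

theorem conj_pw {a c : List Gen} {k : ℕ} (h : chkB (c ++ a) (pw a k ++ c) = true) : IsConj (wd a) (wd a ^ k) := by
  rw [← wd_pw]
  exact conj_of h

theorem conj5 : IsConj (wd W5) (wd W5 ^ 2) :=
  conj_pw (c := [.b, .a, .b, .e, .d, .c, .d, .e]) (by decide +kernel)

theorem conj7 : IsConj (wd W7) (wd W7 ^ 2) :=
  conj_pw (c := [.a, .b, .c, .d, .f, .d, .c, .d, .c, .e, .d, .b, .c, .d, .c, .d, .b]) (by decide +kernel)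

theorem conj4 : IsConj (wd W4) (wd W4 ^ 3) := conj_pw (c := [.f]) (by decide +kernel)

theorem conj8_3 : IsConj (wd W8) (wd W8 ^ 3) :=
  conj_pw (c := [.c, .e, .d, .c, .b, .d, .f, .d, .c, .d, .f, .e, .d, .b, .c, .d, .f, .b, .c, .d, .e, .c]) (by decide +kernel)

theorem conj8_5 : IsConj (wd W8) (wd W8 ^ 5) :=
  conj_pw (c := [.e, .d, .c, .d, .f, .e, .d, .c, .d, .f]) (by decide +kernel)

instance finite_he : Finite Cfsg.Spor.He := Nat.finite_of_card_ne_zero (by
  rw [Cfsg.Agent.KFacts.He.Classes.card_he]; norm_num)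

/-- an element outside of `⟨y⟩` commuting with `y` -/
theorem two_mul_le {G : Type*} [Group G] [Finite G] {y t : G} (h : t * y = y * t) (ht : ∀ k < orderOf y, t ≠ y ^ k) :
    2 * orderOf y ≤ Nat.card ↥(centralizer ({y} : Set G)) := by
  classical
  have hle : zpowers y ≤ centralizer ({y} : Set G) := by
    rw [zpowers_le, mem_centralizer_singleton_iff]
  have htc : t ∈ centralizer ({y} : Set G) := by rw [mem_centralizer_singleton_iff]; exact h
  have hd : orderOf y ∣ Nat.card ↥(centralizer ({y} : Set G)) := by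
    rw [← Nat.card_zpowers]; exact card_dvd_of_le hle
  obtain ⟨m, hm⟩ := hd
  have hm1 : m ≠ 1 := by
    rintro rfl
    rw [mul_one] at hm
    have h1 : zpowers y = centralizer ({y} : Set G) := eq_of_le_of_card_ge hle (by rw [hm, Nat.card_zpowers])
    rw [← h1, mem_zpowers_iff_mem_range_orderOf, Finset.mem_image] at htc
    obtain ⟨k, hk, hkt⟩ := htc
    exact ht k (Finset.mem_range.1 hk) hkt.symm
  have hm0 : m ≠ 0 := by
    rintro rfl
    rw [mul_zero] at hm
    exact Nat.card_pos.ne' hm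
  rw [hm, mul_comm]
  exact Nat.mul_le_mul_left _ (by omega)

theorem ne_of_act {v w : List Gen} (i : Fin 2058) (h : Nat.beq (act v i) (act w i) = false) : wd v ≠ wd w := by
  intro he
  have h1 : act v i = act w i := by rw [← phi_wd_apply, ← phi_wd_apply, he]
  rw [h1, Nat.beq_refl] at h
  exact absurd h (by simp)

theorem cent8_ge : 16 ≤ Nat.card ↥(centralizer ({wd W8} : Set Cfsg.Spor.He)) := by
  have h1 : wd [.a] * wd W8 = wd W8 * wd [.a] := by
    have h := eq_of_chkB (v := ([.a] : List Cfsg.Spor.He.Gen) ++ W8) (w := W8 ++ ([.a] : List Cfsg.Spor.He.Gen)) (by decide +kernel)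
    rwa [wd_append, wd_append] at h
  have h2 := two_mul_le h1 (by
    rw [order_eight]
    intro k hk
    rw [← wd_pw]
    interval_cases k
    · exact ne_of_act 8 (by decide +kernel)
    · exact ne_of_act 8 (by decide +kernel)
    · exact ne_of_act 8 (by decide +kernel)
    · exact ne_of_act 8 (by decide +kernel)
    · exact ne_of_act 8 (by decide +kernel)
    · exact ne_of_act 8 (by decide +kernel)
    · exact ne_of_act 8 (by decide +kernel)
    · exact ne_of_act 8 (by decide +kernel))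
  rwa [order_eight] at h2

theorem cent4_ge : 8 ≤ Nat.card ↥(centralizer ({wd W4} : Set Cfsg.Spor.He)) := by
  have h1 : wd [.b] * wd W4 = wd W4 * wd [.b] := by
    have h := eq_of_chkB (v := ([.b] : List Cfsg.Spor.He.Gen) ++ W4) (w := W4 ++ ([.b] : List Cfsg.Spor.He.Gen)) (by decide +kernel)
    rwa [wd_append, wd_append] at h
  have h2 := two_mul_le h1 (by
    rw [o4]
    intro k hk
    rw [← wd_pw]
    interval_cases k
    · exact ne_of_act 0 (by decide +kernel)
    · exact ne_of_act 0 (by decide +kernel)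
    · exact ne_of_act 0 (by decide +kernel)
    · exact ne_of_act 0 (by decide +kernel))
  rwa [o4] at h2

theorem centd : Nat.card ↥(centralizer ({wd [.d]} : Set Cfsg.Spor.He)) = 21504 := by
  obtain ⟨k, hk⟩ := Cfsg.Agent.KFacts.He.Classes.z_d
  have h1 : wd [.d] = k * Cfsg.Agent.KFacts.He.Bound.z * k⁻¹ := by
    rw [hk]
    simp [wd]
  have h2 : centralizer ({wd [.d]} : Set Cfsg.Spor.He) =
      (centralizer ({Cfsg.Agent.KFacts.He.Bound.z} : Set Cfsg.Spor.He)).map (MulAut.conj k).toMonoidHom := by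
    ext g
    rw [h1, mem_centralizer_singleton_iff, mem_map]
    constructor
    · intro h
      refine ⟨k⁻¹ * g * k, ?_, by simp [mul_assoc]⟩
      rw [mem_centralizer_singleton_iff]
      calc k⁻¹ * g * k * Cfsg.Agent.KFacts.He.Bound.z
          = k⁻¹ * (g * (k * Cfsg.Agent.KFacts.He.Bound.z * k⁻¹)) * k := by group
        _ = k⁻¹ * ((k * Cfsg.Agent.KFacts.He.Bound.z * k⁻¹) * g) * k := by rw [h]
        _ = Cfsg.Agent.KFacts.He.Bound.z * (k⁻¹ * g * k) := by group
    · rintro ⟨g', hg', rfl⟩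
      rw [mem_centralizer_singleton_iff] at hg'
      simp only [MulEquiv.coe_toMonoidHom, MulAut.conj_apply]
      calc k * g' * k⁻¹ * (k * Cfsg.Agent.KFacts.He.Bound.z * k⁻¹)
          = k * (g' * Cfsg.Agent.KFacts.He.Bound.z) * k⁻¹ := by group
        _ = k * (Cfsg.Agent.KFacts.He.Bound.z * g') * k⁻¹ := by rw [hg']
        _ = k * Cfsg.Agent.KFacts.He.Bound.z * k⁻¹ * (k * g' * k⁻¹) := by group
  rw [h2, card_map_of_injective (MulEquiv.injective _), Cfsg.Agent.KFacts.He.Classes.card_centralizer]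

end Cfsg.Agent.H30.OZ.HeDat
end
end

-- part: H399/OZ/Dat
section
set_option linter.all false
open scoped Cfsg.Agent.FastGrp

/-!
# Elements of order 8 of `M₁₂`, of order 4 of `M₁₁`: centralizers and rationality (helper399, for S4842)

* `exists_y12` : `y` of order 8 in `M₁₂`, `|C(y)| ≤ 8`, `y` is conjugate to its odd powers;
* `exists_y11` : `y` of order 4 in `M₁₁`, `|C(y)| = 8`, `y` is conjugate to its odd powers.
-/

set_option autoImplicit false
set_option maxRecDepth 100000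

open Cfsg Subgroup
open scoped Pointwise

namespace Cfsg.Agent.H399.OZ

open Cfsg.Agent.SporadicA.GolayBase Cfsg.Agent.SporadicA.GolayPerm
open Cfsg.Agent.SporadicStructure.M24El Cfsg.Agent.H729.Trans Cfsg.Agent.H729.MData Cfsg.Agent.H729.Count
open Cfsg.Agent.H729.M24Deg
open Cfsg.Agent.H729.PairMathieu (dod mem_dod mem_stab inc12 inc12_injective)

/-- the complementary dodecad -/
def cod : List ℕ := [5, 7, 10, 11, 14, 15, 17, 19, 20, 21, 22, 23]

/-! ### `M₁₂` -/

def cY : ℕ := 974461056323035221108118822655656525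

def wdY : List (ℕ × ℕ) := [(1, 0), (2, 0), (1, 7), (2, 3), (1, 6), (0, 0), (1, 4), (0, 2), (1, 5), (1, 2), (4, 1), (0, 7), (2, 2), (1, 1), (0, 5), (0, 6), (1, 3), (3, 0), (2, 1), (0, 1), (4, 0), (0, 3), (0, 4), (5, 0)]

def stY : List (ℕ × List ℕ × List (List (ℕ × ℕ))) := [(5, cod, []),
  (0, dod, [[(1, 7), (0, 0), (1, 4), (0, 2), (1, 2), (0, 7), (1, 1), (0, 1)]]),
  (1, dod, [[(2, 0), (0, 0), (1, 4), (0, 2), (0, 6), (1, 3), (2, 1), (0, 1)]]),
  (17, cod, [[(1, 4), (0, 7), (1, 1), (0, 5), (1, 3), (3, 0), (2, 1), (0, 1)]]),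
  (20, cod, [[(1, 0), (1, 6), (4, 1), (0, 7), (2, 2), (3, 0), (2, 1), (0, 1)]]),
  (23, cod, [])]

/-- conjugating elements -/
def t3 : ℕ := 973865841127918806966246083443169858
def t5 : ℕ := 713508038817093280236299335846412672
def t7 : ℕ := 720646969161451546836122102460191304

private noncomputable def _root_.Cfsg.Agent.GolayF.f0 : {f // @Cfsg.Agent.H729.Trans.pre = f} :=
  ⟨_, by delta Cfsg.Agent.H729.Trans.mk Cfsg.Agent.H729.Trans.mk._f Cfsg.Agent.H729.Trans.pre Cfsg.Agent.H729.Trans.srcOk Cfsg.Agent.H729.Trans.srcOk._f Cfsg.Agent.H729.Trans.wdOk; rewrite [Cfsg.Agent.GolayF.isCode_eq, Cfsg.Agent.GolayF.ok_eq, Cfsg.Agent.GolayF.pw_eq]; exact rfl⟩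

theorem preY : pre 8 cY wdY stY = true := by (rewrite [Cfsg.Agent.GolayF.f0.2]; decide +kernel)
theorem lenY : (tl 8 cY cY wdY stY).length = 8 := by (rewrite [Cfsg.Agent.GolayF.tl_eq]; decide +kernel)
theorem okY : ok cY = true := ok_of_pre preY

/-- the tests of a conjugating element -/
def cjOk (c k t : ℕ) : Bool :=
  ok t && (Nat.beq (pcomp t c) (pcomp (ppow c k) t) && dod.all fun i => decide (papp t i ∈ dod))

private noncomputable def _root_.Cfsg.Agent.GolayF.f1 : {f // @Cfsg.Agent.H399.OZ.cjOk = f} :=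
  ⟨_, by delta Cfsg.Agent.H399.OZ.cjOk Cfsg.Agent.H729.MData.ppow Cfsg.Agent.H729.MData.ppow._f; rewrite [Cfsg.Agent.GolayF.papp_eq, Cfsg.Agent.GolayF.pcomp_eq, Cfsg.Agent.GolayF.ok_eq]; exact rfl⟩

theorem cjY : (cjOk cY 3 t3 && (cjOk cY 5 t5 && cjOk cY 7 t7)) = true := by (rewrite [Cfsg.Agent.GolayF.f1.2]; decide +kernel)

theorem dodY : (dod.all fun i => decide (papp cY i ∈ dod)) = true := by (rewrite [Cfsg.Agent.GolayF.papp_eq]; decide +kernel)

/-- the tests of the candidate lists -/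
def stD (sts : List (ℕ × List ℕ × List (List (ℕ × ℕ)))) : Bool :=
  sts.all fun st => Nat.blt st.1 24 && (cond (decide (st.1 ∈ dod)) (decide (st.2.1 = dod)) (decide (st.2.1 = cod)) ||
    (decide (st.1 = 0) && decide (st.2.1 = [0])))

theorem im_dod (g : Spor.M12) {j : ℕ} (hj : j < 24) : im (inc12 g) j ∈ dod ↔ j ∈ dod := by
  have h : (g : Equiv.Perm GolayPt) • Spor.squareDodecad = Spor.squareDodecad := g.2.2
  have h1 : im (inc12 g) j = idx ((g : Equiv.Perm GolayPt) (pt j)) := rfl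
  rw [h1, ← mem_dod]
  have h2 : (g : Equiv.Perm GolayPt) (pt j) ∈ Spor.squareDodecad ↔ pt j ∈ Spor.squareDodecad := by
    conv_lhs => rw [← h]
    exact Finset.smul_mem_smul_finset_iff (a := (g : Equiv.Perm GolayPt)) (b := pt j)
  rw [h2, mem_dod, idx_pt hj]

theorem mem_cod {j : ℕ} (hj : j < 24) (h : ¬ j ∈ dod) : j ∈ cod := by
  have key : ∀ j < 24, j ∈ dod ∨ j ∈ cod := by decide
  rcases key j hj with h1 | h1
  · exact absurd h1 h
  · exact h1

/-! ### `M₁₁` -/

/-- The inclusion of `M11` in `M12`. -/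
def inc11' : Spor.M11 →* Spor.M12 where
  toFun g := ⟨(g : Equiv.Perm GolayPt), g.2.1⟩
  map_one' := rfl
  map_mul' _ _ := rfl

/-- The inclusion of `M11` in `M24`. -/
def inc11 : Spor.M11 →* M24 := inc12.comp inc11'

theorem inc11_injective : Function.Injective inc11 := by
  intro a b h
  exact Subtype.ext (congrArg (fun g : M24 => (g : Equiv.Perm GolayPt)) h)

theorem im_zero (g : Spor.M11) : im (inc11 g) 0 = 0 := by
  have h : (g : Equiv.Perm GolayPt) (some 0) = some 0 := g.2.2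
  show idx ((g : Equiv.Perm GolayPt) (pt 0)) = 0
  have e : pt 0 = some 0 := by decide
  rw [e, h]
  rfl

theorem st_D11 {sts : List (ℕ × List ℕ × List (List (ℕ × ℕ)))} (h : stD sts = true)
    (g : Spor.M11) : ∀ st ∈ sts, im (inc11 g) st.1 ∈ st.2.1 := by
  intro st hst
  have h1 := List.all_eq_true.1 h st hst
  rw [Bool.and_eq_true, Bool.or_eq_true] at h1
  obtain ⟨h0, h1⟩ := h1
  have h24 : st.1 < 24 := Nat.blt_eq.mp h0
  rcases h1 with h1 | h1
  · by_cases hd : st.1 ∈ dod
    · rw [decide_eq_true hd, cond_true, decide_eq_true_iff] at h1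
      rw [h1]
      exact (im_dod (inc11' g) h24).2 hd
    · rw [decide_eq_false hd, cond_false, decide_eq_true_iff] at h1
      rw [h1]
      exact mem_cod (im_lt _ _) fun h2 => hd ((im_dod (inc11' g) h24).1 h2)
  · rw [Bool.and_eq_true, decide_eq_true_iff, decide_eq_true_iff] at h1
    rw [h1.1, h1.2, im_zero]
    exact List.mem_singleton.2 rfl

theorem st_D12 {sts : List (ℕ × List ℕ × List (List (ℕ × ℕ)))} (h : stD sts = true)
    (h' : (sts.all fun st => !(decide (st.2.1 = [0]))) = true)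
    (g : Spor.M12) : ∀ st ∈ sts, im (inc12 g) st.1 ∈ st.2.1 := by
  intro st hst
  have h1 := List.all_eq_true.1 h st hst
  have h3 := List.all_eq_true.1 h' st hst
  rw [Bool.not_eq_true', decide_eq_false_iff_not] at h3
  rw [Bool.and_eq_true, Bool.or_eq_true] at h1
  obtain ⟨h0, h1⟩ := h1
  have h24 : st.1 < 24 := Nat.blt_eq.mp h0
  rcases h1 with h1 | h1
  · by_cases hd : st.1 ∈ dod
    · rw [decide_eq_true hd, cond_true, decide_eq_true_iff] at h1
      rw [h1]
      exact (im_dod g h24).2 hd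
    · rw [decide_eq_false hd, cond_false, decide_eq_true_iff] at h1
      rw [h1]
      exact mem_cod (im_lt _ _) fun h2 => hd ((im_dod g h24).1 h2)
  · rw [Bool.and_eq_true, decide_eq_true_iff, decide_eq_true_iff] at h1
    exact absurd h1.2 h3

/-- the element of `M12` with a packed permutation -/
theorem exists_el12 {c : ℕ} (hc : ok c = true) (h : (dod.all fun i => decide (papp c i ∈ dod)) = true) :
    ∃ x : Spor.M12, inc12 x = el c := ⟨⟨el c, mem_stab hc h⟩, rfl⟩

theorem exists_el11 {c : ℕ} (hc : ok c = true) (h : (dod.all fun i => decide (papp c i ∈ dod)) = true)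
    (h2 : papp c 0 = 0) : ∃ x : Spor.M11, inc11 x = el c := by
  have h4 : (el c : Equiv.Perm GolayPt) (some 0) = some 0 := by
    have h := el_smul_pt hc (some 0 : GolayPt)
    have e : idx (some 0) = 0 := rfl
    rw [e, h2] at h
    exact h
  exact ⟨⟨el c, mem_stab hc h, h4⟩, rfl⟩

/-- The conjugation of `y` to a power. -/
theorem conj_pow_of {G : Type*} [Group G] (φ : G →* M24) (hφ : Function.Injective φ) {y t : G} {c k t' : ℕ}
    (hc : ok c = true) (ht : ok t' = true) (hy : φ y = el c) (hx : φ t = el t')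
    (h : Nat.beq (pcomp t' c) (pcomp (ppow c k) t') = true) : IsConj (y ^ k) y := by
  refine IsConj.symm (isConj_iff.2 ⟨t, ?_⟩)
  rw [mul_inv_eq_iff_eq_mul]
  apply hφ
  rw [map_mul, map_mul, map_pow, hy, hx, ← el_pcomp ht hc, ← el_ppow hc, ← el_pcomp (ok_ppow hc k) ht,
    Nat.eq_of_beq_eq_true h]

private noncomputable def _root_.Cfsg.Agent.GolayF.f2 : {f // @Cfsg.Agent.H729.MData.ppow = f} :=
  ⟨_, by delta Cfsg.Agent.H729.MData.ppow Cfsg.Agent.H729.MData.ppow._f; rewrite [Cfsg.Agent.GolayF.pcomp_eq]; exact rfl⟩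

/-- **An element of order 8 of `M₁₂`.** -/
theorem exists_y12 : ∃ y : Spor.M12, orderOf y = 8 ∧ Nat.card (centralizer ({y} : Set Spor.M12)) ≤ 8 ∧
    ∀ m : ℕ, ¬ 2 ∣ m → IsConj (y ^ m) y := by
  obtain ⟨y, hy⟩ := exists_el12 okY dodY
  have ho : orderOf y = 8 := by
    rw [← orderOf_injective inc12 inc12_injective y, hy]
    have : Fact (Nat.Prime 2) := ⟨Nat.prime_two⟩
    exact orderOf_eq_prime_pow (p := 2) (n := 2) (by
      rw [← el_ppow okY]
      exact el_ne_one (ok_ppow okY _) 0 (by norm_num) (by (rewrite [Cfsg.Agent.GolayF.f2.2, Cfsg.Agent.GolayF.papp_eq]; decide +kernel))) (el_pow_eq_one okY (by (rewrite [Cfsg.Agent.GolayF.f2.2]; decide +kernel)))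
  refine ⟨y, ho, ?_, fun m hm => ?_⟩
  · have h := card_cent_le inc12 inc12_injective preY hy (fun g => st_D12 (by decide +kernel) (by decide +kernel) g)
    rwa [lenY] at h
  · have hk := cjY
    simp only [cjOk, Bool.and_eq_true] at hk
    obtain ⟨⟨a1, a2, a3⟩, ⟨b1, b2, b3⟩, ⟨c1, c2, c3⟩⟩ := hk
    rw [← pow_mod_orderOf, ho]
    have h8 : m % 8 = 1 ∨ m % 8 = 3 ∨ m % 8 = 5 ∨ m % 8 = 7 := by omega
    rcases h8 with h8 | h8 | h8 | h8
    · rw [h8, pow_one]
    · rw [h8]
      obtain ⟨t, ht⟩ := exists_el12 a1 a3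
      exact conj_pow_of inc12 inc12_injective okY a1 hy ht a2
    · rw [h8]
      obtain ⟨t, ht⟩ := exists_el12 b1 b3
      exact conj_pow_of inc12 inc12_injective okY b1 hy ht b2
    · rw [h8]
      obtain ⟨t, ht⟩ := exists_el12 c1 c3
      exact conj_pow_of inc12 inc12_injective okY c1 hy ht c2

/-! ### the element of `M₁₁` -/

def cW : ℕ := 860914113533713961456629880113597632
def cV : ℕ := 234371307503161862163929120880336928
def tV : ℕ := 837733656576498332101074365233311776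

def wdV : List (ℕ × ℕ) := [(2, 0), (8, 0), (1, 0), (6, 2), (6, 3), (4, 0), (9, 0), (3, 0), (1, 1), (1, 3), (0, 2), (3, 2), (6, 0), (6, 1), (3, 3), (0, 1), (1, 2), (0, 0), (5, 0), (3, 1), (7, 1), (0, 3), (7, 0), (4, 1)]

def stV : List (ℕ × List ℕ × List (List (ℕ × ℕ))) := [(17, cod, []),
  (2, dod, [[(1, 0), (1, 1), (1, 3), (0, 2), (0, 1), (1, 2), (0, 0), (0, 3)]]),
  (0, [0], []),
  (7, cod, [[(3, 0), (1, 1), (1, 3), (0, 2), (3, 2), (3, 3), (0, 0), (3, 1)]]),
  (5, cod, [[(2, 0), (4, 0), (0, 2), (3, 2), (3, 3), (1, 2), (0, 0), (0, 3)]]),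
  (18, dod, [[(2, 0), (1, 3), (0, 2), (3, 3), (0, 1), (1, 2), (5, 0), (3, 1)]]),
  (12, dod, [[(2, 0), (6, 2), (6, 3), (0, 2), (0, 1), (1, 2), (0, 0), (4, 1)]]),
  (22, cod, [[(6, 2), (6, 3), (4, 0), (6, 1), (3, 3), (1, 2), (0, 0), (7, 0)]]),
  (1, dod, [[(8, 0), (6, 2), (3, 0), (0, 2), (3, 3), (0, 1), (3, 1), (4, 1)]]),
  (6, dod, [])]

theorem preV : pre 4 cV wdV stV = true := by (rewrite [Cfsg.Agent.GolayF.f0.2]; decide +kernel)
theorem lenV : (tl 4 cV cV wdV stV).length = 8 := by (rewrite [Cfsg.Agent.GolayF.tl_eq]; decide +kernel)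
theorem okV : ok cV = true := ok_of_pre preV
theorem okW : ok cW = true := by (rewrite [Cfsg.Agent.GolayF.ok_eq]; decide +kernel)
theorem cjV : cjOk cV 3 tV = true := by (rewrite [Cfsg.Agent.GolayF.f1.2]; decide +kernel)

/-- **An element of order 4 of `M₁₁`.** -/
theorem exists_y11 : ∃ y : Spor.M11, orderOf y = 4 ∧ Nat.card (centralizer ({y} : Set Spor.M11)) = 8 ∧
    ∀ m : ℕ, ¬ 2 ∣ m → IsConj (y ^ m) y := by
  have : Fact (Nat.Prime 2) := ⟨Nat.prime_two⟩
  obtain ⟨y, hy⟩ := exists_el11 okV (by (rewrite [Cfsg.Agent.GolayF.papp_eq]; decide +kernel)) (by (rewrite [Cfsg.Agent.GolayF.papp_eq]; decide +kernel))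
  obtain ⟨w, hw⟩ := exists_el11 okW (by (rewrite [Cfsg.Agent.GolayF.papp_eq]; decide +kernel)) (by (rewrite [Cfsg.Agent.GolayF.papp_eq]; decide +kernel))
  have hwy : w ^ 2 = y := by
    apply inc11_injective
    rw [map_pow, hw, hy, ← el_ppow okW]
    congr 1
  have hwo : orderOf w = 8 := by
    rw [← orderOf_injective inc11 inc11_injective w, hw]
    exact orderOf_eq_prime_pow (p := 2) (n := 2) (by
      rw [← el_ppow okW]
      exact el_ne_one (ok_ppow okW _) 2 (by norm_num) (by (rewrite [Cfsg.Agent.GolayF.f2.2, Cfsg.Agent.GolayF.papp_eq]; decide +kernel))) (el_pow_eq_one okW (by (rewrite [Cfsg.Agent.GolayF.f2.2]; decide +kernel)))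
  have ho : orderOf y = 4 := by
    rw [← hwy, orderOf_pow, hwo]
    norm_num
  refine ⟨y, ho, ?_, fun m hm => ?_⟩
  · apply le_antisymm
    · have h := card_cent_le inc11 inc11_injective preV hy (fun g => st_D11 (by decide +kernel) g)
      rwa [lenV] at h
    · have hfin : Finite (centralizer ({y} : Set Spor.M11)) := inferInstance
      have h1 : orderOf w ∣ Nat.card (centralizer ({y} : Set Spor.M11)) :=
        Subgroup.orderOf_dvd_natCard _ (mem_centralizer_singleton_iff.2 (by rw [← hwy, ← pow_succ, ← pow_succ']))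
      rw [hwo] at h1
      exact Nat.le_of_dvd Nat.card_pos h1
  · have hk := cjV
    simp only [cjOk, Bool.and_eq_true] at hk
    obtain ⟨a1, a2, a3⟩ := hk
    rw [← pow_mod_orderOf, ho]
    have h8 : m % 4 = 1 ∨ m % 4 = 3 := by omega
    rcases h8 with h8 | h8
    · rw [h8, pow_one]
    · rw [h8]
      obtain ⟨t, ht⟩ := exists_el11 a1 a3 (by (rewrite [Cfsg.Agent.GolayF.papp_eq]; decide +kernel))
      exact conj_pow_of inc11 inc11_injective okV a1 hy ht a2

end Cfsg.Agent.H399.OZ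

private theorem dce_d8f3c67b83e1 : _root_.True := by
  try have : _root_.True := by simp only [_root_.Cfsg.Agent.H399.OZ.cjOk.eq_1]
  exact _root_.True.intro
end
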